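import Cfsg.Agent.H389.NR.Fr
import Cfsg.Agent.H495.Frob
import Cfsg.Agent.H559.FCNonsolv

/-!
# Element orders of a nonsolvable Frobenius group (S3440, `fr_of_frobenius`; helper299)

* `exists_hom` : a nonsolvable group with a fixed-point-free action has a homomorphism to `S₅` with image of order `60` or
  `120` and kernel of order `2 m`, `m` prime to `30`;
* `fr_compl` : `Fr` for such a group;
* `fr_of_frobenius` : a nonsolvable Frobenius group satisfies `Fr`.
-/

set_option autoImplicit false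
set_option linter.style.haveILetI false

namespace Cfsg.Agent.H299.NR

open Subgroup
open Cfsg.Agent.H348 Cfsg.Agent.PermutationGroups.AutSL25 Cfsg.Agent.H559.FC
open Cfsg.Agent.H389.JSq (Has)
open Cfsg.Agent.H389.NR (Fr)

theorem exists_hom {G : Type*} [Group G] [Finite G] (hns : ¬ Group.IsSolvable G) (h : HasFPF G) :
    ∃ (f : G →* Equiv.Perm (Fin 5)) (m i : ℕ), Nat.card f.ker = 2 * m ∧ m.Coprime 30 ∧
      Nat.card f.range = 60 * i ∧ (i = 1 ∨ i = 2) := by
  obtain ⟨S, M, hSc, hMn, hSM, hsup, hidx, hcomm, ⟨e⟩, hcyc, hcop⟩ := h.nonsolvable hns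
  haveI := hSc
  haveI := hMn
  haveI hSn : S.Normal := inferInstance
  have hScard : Nat.card S = 120 := by rw [Nat.card_congr e.toEquiv, natCard]
  obtain ⟨C, hC⟩ : ∃ C : Subgroup G, C = Subgroup.centralizer (S : Set G) := ⟨_, rfl⟩
  haveI hCn : C.Normal := by rw [hC]; infer_instance
  rw [← hC] at hsup
  -- the centre of `S`
  obtain ⟨Z, hZ⟩ : ∃ Z : Subgroup G, Z = (Subgroup.center S).map S.subtype := ⟨_, rfl⟩
  have hZC : C ⊓ S = Z := by
    ext x
    rw [Subgroup.mem_inf, hC, Subgroup.mem_centralizer_iff, hZ]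
    constructor
    · rintro ⟨h1, h2⟩
      refine ⟨⟨x, h2⟩, ?_, rfl⟩
      rw [SetLike.mem_coe, Subgroup.mem_center_iff]
      rintro ⟨y, hy⟩
      exact Subtype.ext (h1 y hy)
    · rintro ⟨⟨y, hy⟩, hz, rfl⟩
      rw [SetLike.mem_coe, Subgroup.mem_center_iff] at hz
      exact ⟨fun w hw => congrArg Subtype.val (hz ⟨w, hw⟩), hy⟩
  have hZcard : Nat.card Z = 2 := by
    rw [hZ, Subgroup.card_map_of_injective S.subtype_injective, ← card_center]
    exact Nat.card_congr (Subgroup.centerCongr e).toEquiv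
  haveI hZn : Z.Normal := by rw [← hZC]; infer_instance
  -- index of `C`
  have hrel : C.relIndex (S ⊔ C) = 60 := by
    rw [Subgroup.relIndex_sup_right]
    have h3 := Subgroup.relIndex_mul_relIndex (⊥ : Subgroup G) (C ⊓ S) S bot_le inf_le_right
    rw [Subgroup.relIndex_bot_left, Subgroup.relIndex_bot_left, hZC, hZcard, hScard] at h3
    have h4 : C.relIndex S = Z.relIndex S := by rw [← hZC, Subgroup.inf_relIndex_right]
    omega
  have hCi : C.index = 60 * (S ⊔ M).index := by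
    rw [hsup, ← Subgroup.relIndex_mul_index (H := C) (K := S ⊔ C) le_sup_right, hrel]
  have hcardC : Nat.card C = 2 * Nat.card M := by
    have h1 := C.index_mul_card
    have h2 := (S ⊔ M).index_mul_card
    have h3 : Nat.card (S ⊔ M : Subgroup G) = 120 * Nat.card M := by
      have h4 := Subgroup.relIndex_mul_relIndex (⊥ : Subgroup G) S (S ⊔ M) bot_le le_sup_left
      rw [Subgroup.relIndex_bot_left, Subgroup.relIndex_bot_left, Subgroup.relIndex_sup_left,
        ← Subgroup.inf_relIndex_right, hSM, Subgroup.relIndex_bot_left, hScard] at h4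
      exact h4.symm
    rw [hCi] at h1
    rw [h3, ← h1] at h2
    have h5 : 0 < (S ⊔ M).index := Nat.pos_of_ne_zero Subgroup.index_ne_zero_of_finite
    have h6 : (S ⊔ M).index * (60 * Nat.card C) = (S ⊔ M).index * (60 * (2 * Nat.card M)) := by
      linarith
    have h7 := Nat.eq_of_mul_eq_mul_left h5 h6
    exact Nat.eq_of_mul_eq_mul_left (by norm_num) h7
  have hperf : commutator S = ⊤ := perfect_of_equiv e commutator_SL25
  have hZcen : ∀ z ∈ Z, ∀ g : G, g * z = z * g := by
    intro z hz g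
    by_cases hz1 : z = 1
    · rw [hz1]; simp
    · have h3 : z * z = 1 := by
        have h4 : (⟨z, hz⟩ : Z) ^ 2 = 1 := by rw [← hZcard]; exact pow_card_eq_one'
        rw [sq] at h4
        exact congrArg Subtype.val h4
      exact Subgroup.mem_center_iff.1 (h.mem_center h3 hz1) g
  obtain ⟨e1⟩ := nonempty_image S Z hZ e
  obtain ⟨f, hker⟩ := exists_action S Z hZcen hperf e1
  rw [← hC] at hker
  refine ⟨f, Nat.card M, (S ⊔ M).index, ?_, hcop, ?_, hidx⟩
  · rw [hker, hcardC]
  · rw [← Subgroup.index_ker, hker, hCi]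

theorem s5_orders : ∀ g : Equiv.Perm (Fin 5), g ^ 4 = 1 ∨ g ^ 5 = 1 ∨ g ^ 6 = 1 := by decide +kernel

theorem a5_sq : ∀ g : Equiv.Perm (Fin 5), Equiv.Perm.sign g = 1 → g ^ 4 = 1 → g ^ 2 = 1 := by decide +kernel

theorem s5_six : ∃ g : Equiv.Perm (Fin 5), g ^ 6 = 1 ∧ ¬ g ^ 3 = 1 ∧ ¬ g ^ 2 = 1 :=
  ⟨Equiv.swap 0 1 * (Equiv.swap 2 3 * Equiv.swap 3 4), by decide +kernel, by decide +kernel, by decide +kernel⟩

section

variable {G : Type*} [Group G] [Finite G] {f : G →* Equiv.Perm (Fin 5)} {m : ℕ}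

/-- the order of an element: one of the powers `4, 5, 6` is in the kernel -/
theorem exists_dvd {n : ℕ} (hk : Nat.card f.ker = 2 * m) (h : Has G n) :
    n / n.gcd 4 ∣ 2 * m ∨ n / n.gcd 5 ∣ 2 * m ∨ n / n.gcd 6 ∣ 2 * m := by
  obtain ⟨x, rfl⟩ := h
  have key : ∀ j, f x ^ j = 1 → orderOf x / (orderOf x).gcd j ∣ 2 * m := by
    intro j hj
    rw [← orderOf_pow, ← hk]
    exact Subgroup.orderOf_dvd_natCard _ (by rw [MonoidHom.mem_ker, map_pow, hj])
  rcases s5_orders (f x) with h | h | h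
  · exact Or.inl (key _ h)
  · exact Or.inr (Or.inl (key _ h))
  · exact Or.inr (Or.inr (key _ h))

theorem arith (hm : m.Coprime 30) : ¬ 3 ∣ 2 * m ∧ ¬ 4 ∣ 2 * m ∧ ¬ 5 ∣ 2 * m := by
  have h2 : ¬ 2 ∣ m := fun h => by
    have := Nat.dvd_gcd h (show 2 ∣ 30 by norm_num)
    rw [hm] at this; omega
  have h3 : ¬ 3 ∣ m := fun h => by
    have := Nat.dvd_gcd h (show 3 ∣ 30 by norm_num)
    rw [hm] at this; omega
  have h5 : ¬ 5 ∣ m := fun h => by
    have := Nat.dvd_gcd h (show 5 ∣ 30 by norm_num)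
    rw [hm] at this; omega
  omega

theorem not_has {n : ℕ} (hk : Nat.card f.ker = 2 * m) (hm : m.Coprime 30)
    (h4 : 3 ∣ n / n.gcd 4 ∨ 4 ∣ n / n.gcd 4 ∨ 5 ∣ n / n.gcd 4)
    (h5 : 3 ∣ n / n.gcd 5 ∨ 4 ∣ n / n.gcd 5 ∨ 5 ∣ n / n.gcd 5)
    (h6 : 3 ∣ n / n.gcd 6 ∨ 4 ∣ n / n.gcd 6 ∨ 5 ∣ n / n.gcd 6) : ¬ Has G n := by
  intro h
  obtain ⟨a3, a4, a5⟩ := arith hm
  have key : ∀ d, d ∣ 2 * m → ¬ (3 ∣ d ∨ 4 ∣ d ∨ 5 ∣ d) := by
    rintro d hd (h | h | h)
    · exact a3 (h.trans hd)
    · exact a4 (h.trans hd)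
    · exact a5 (h.trans hd)
  rcases exists_dvd hk h with h | h | h
  · exact key _ h h4
  · exact key _ h h5
  · exact key _ h h6

end

/-- `Fr` for a nonsolvable group with a fixed-point-free action. -/
theorem fr_compl {G : Type*} [Group G] [Finite G] (hns : ¬ Group.IsSolvable G) (h : HasFPF G) : Fr G := by
  obtain ⟨f, m, i, hk, hm, hr, hi⟩ := exists_hom hns h
  have hcard : Nat.card G = 60 * i * (2 * m) := by
    rw [← hk, ← hr, ← Subgroup.index_ker, Subgroup.index_mul_card]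
  have h3 : Has G 3 := Cfsg.Agent.H389.JSq.Has.of_prime_dvd Nat.prime_three (by rw [hcard]; exact ⟨20 * i * (2 * m), by ring⟩)
  have h5 : Has G 5 := Cfsg.Agent.H389.JSq.Has.of_prime_dvd Nat.prime_five (by rw [hcard]; exact ⟨12 * i * (2 * m), by ring⟩)
  -- the central involution
  obtain ⟨z, hzk, hz2⟩ : ∃ z ∈ f.ker, orderOf z = 2 := by
    have h2 := Cfsg.Agent.H389.JSq.Has.of_prime_dvd (X := ↥f.ker) Nat.prime_two (by rw [hk]; exact ⟨m, rfl⟩)
    obtain ⟨z, hz⟩ := h2
    exact ⟨z, z.2, by rw [Subgroup.orderOf_coe, hz]⟩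
  have hz1 : z ≠ 1 := by
    rintro rfl
    rw [orderOf_one] at hz2
    omega
  have hzz : z * z = 1 := by rw [← pow_two, ← hz2, pow_orderOf_eq_one]
  have hzc := h.mem_center hzz hz1
  have hcm : ∀ t, Commute z t := fun t => (Subgroup.mem_center_iff.1 hzc t).symm
  have mul : ∀ n, Nat.Coprime 2 n → Has G n → Has G (2 * n) := by
    rintro n hn ⟨t, ht⟩
    exact Cfsg.Agent.H389.JSq.Has.of_commute (hcm t) hz2 ht hn
  refine ⟨mul 3 (by norm_num) h3, mul 5 (by norm_num) h5, not_has hk hm ?_ ?_ ?_, not_has hk hm ?_ ?_ ?_,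
    not_has hk hm ?_ ?_ ?_, not_has hk hm ?_ ?_ ?_, not_has hk hm ?_ ?_ ?_, not_has hk hm ?_ ?_ ?_, ?_⟩
  iterate 18 norm_num
  rintro ⟨x, hx⟩
  obtain ⟨a3, a4, a5⟩ := arith hm
  rcases hi with rfl | rfl
  · -- the image is the alternating group
    exfalso
    have hA : f.range = alternatingGroup (Fin 5) := by
      apply Equiv.Perm.eq_alternatingGroup_of_index_eq_two
      have h1 := f.range.card_mul_index
      rw [hr, Nat.card_perm, Nat.card_eq_fintype_card, Fintype.card_fin] at h1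
      have h2 : Nat.factorial 5 = 120 := rfl
      rw [h2] at h1
      omega
    have h4 : f x ^ 4 = 1 := by
      have h8 : f x ^ 8 = 1 := by rw [← map_pow, ← hx, pow_orderOf_eq_one, map_one]
      have hd := orderOf_dvd_of_pow_eq_one h8
      rcases s5_orders (f x) with h | h | h
      · exact h
      · have h1 := Nat.dvd_gcd hd (orderOf_dvd_of_pow_eq_one h)
        exact orderOf_dvd_iff_pow_eq_one.1 (h1.trans (by norm_num))
      · have h1 := Nat.dvd_gcd hd (orderOf_dvd_of_pow_eq_one h)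
        exact orderOf_dvd_iff_pow_eq_one.1 (h1.trans (by norm_num))
    have h2 := a5_sq (f x) (Equiv.Perm.mem_alternatingGroup.1 (hA ▸ ⟨x, rfl⟩)) h4
    have h3 : orderOf (x ^ 2) ∣ 2 * m := by
      rw [← hk]
      exact Subgroup.orderOf_dvd_natCard _ (by rw [MonoidHom.mem_ker, map_pow, h2])
    rw [orderOf_pow, hx] at h3
    exact a4 h3
  · -- the image is `S₅`
    have hsurj : Function.Surjective f := by
      rw [← MonoidHom.range_eq_top]
      apply Subgroup.eq_top_of_card_eq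
      rw [hr, Nat.card_perm, Nat.card_eq_fintype_card, Fintype.card_fin]
      rfl
    obtain ⟨g, g6, g3, g2⟩ := s5_six
    obtain ⟨w, hw⟩ := hsurj g
    have hg6 : orderOf g = 6 := by
      have h1 := orderOf_dvd_of_pow_eq_one g6
      have h2 : orderOf g ≤ 6 := Nat.le_of_dvd (by norm_num) h1
      interval_cases hog : orderOf g
      · omega
      · exact absurd (orderOf_dvd_iff_pow_eq_one.1 (hog ▸ (by norm_num : 1 ∣ 2))) g2
      · exact absurd (orderOf_dvd_iff_pow_eq_one.1 (hog ▸ dvd_rfl)) g2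
      · exact absurd (orderOf_dvd_iff_pow_eq_one.1 (hog ▸ dvd_rfl)) g3
      · omega
      · omega
      · rfl
    have h6 : 6 ∣ orderOf w := by
      rw [← hg6, ← hw]
      exact orderOf_map_dvd f w
    have h4 : 4 ∣ orderOf w := by
      by_contra h4
      obtain ⟨k, hk'⟩ : 2 ∣ orderOf w := (by norm_num : 2 ∣ 6).trans h6
      have hkodd : ¬ 2 ∣ k := by omega
      have h7 : orderOf (w ^ k) = 2 := by
        have hk0 : k ≠ 0 := by
          rintro rfl
          exact hkodd (dvd_zero _)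
        rw [orderOf_pow_of_dvd hk0 ⟨2, by rw [hk']; ring⟩, hk']
        exact Nat.mul_div_cancel _ (Nat.pos_of_ne_zero hk0)
      have h8 : w ^ k = z := by
        apply h.eq_of_sq_eq_one _ _ hzz hz1
        · rw [← pow_two, ← h7, pow_orderOf_eq_one]
        · intro h0
          rw [h0, orderOf_one] at h7
          omega
      have h9 : g ^ k = 1 := by
        rw [← hw, ← map_pow, h8]
        exact hzk
      have h10 := orderOf_dvd_of_pow_eq_one h9
      rw [hg6] at h10
      exact hkodd ((by norm_num : 2 ∣ 6).trans h10)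
    refine Cfsg.Agent.H389.JSq.Has.of_dvd_orderOf (g := w) ?_
    omega

/-- **A nonsolvable Frobenius group satisfies `Fr`.** -/
theorem fr_of_frobenius {G : Type*} [Group G] [Finite G] (hG : ¬ Group.IsSolvable G) {C : Subgroup G}
    (hC : Cfsg.IsFrobeniusComplement C) : Fr G := by
  obtain ⟨K, -, hKn, hKnil, hKC, hcop, -, hx⟩ := Cfsg.Agent.H495.Frob.frob_data C hC
  have hns : ¬ Group.IsSolvable C := by
    intro hs
    apply hG
    have hKs : Group.IsSolvable K := inferInstance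
    have hq : Group.IsSolvable (G ⧸ K) := by
      have e1 : C ≃* G ⧸ K := hKC.symm.QuotientMulEquiv.symm
      exact Group.isSolvable_of_surjective (f := e1.toMonoidHom) e1.surjective
    exact Group.isSolvable_of_ker_le_range K.subtype (QuotientGroup.mk' K) (by
      rw [QuotientGroup.ker_mk', Subgroup.range_subtype])
  let f : G ≃* Shrink.{0} G := Shrink.mulEquiv.symm
  have hfin : Finite (Shrink.{0} G) := Finite.of_equiv G f.toEquiv
  have hFPF : HasFPF C := hasFPF_of_exists
    ⟨Shrink.{0} G, inferInstance, hfin, C.map f.toMonoidHom, Cfsg.Agent.H495.Frob.isFrobeniusComplement_map f hC,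
      ⟨C.equivMapOfInjective f.toMonoidHom f.injective⟩⟩
  have hF := fr_compl hns hFPF
  have hcard : 30 ∣ Nat.card C := by
    obtain ⟨m, -, hm⟩ := (Cfsg.Agent.H495.Frob.complement_nonsolvable hC hns).1
    rcases hm with hm | hm
    · rw [hm]; exact ⟨4 * m, by ring⟩
    · rw [hm]; exact ⟨8 * m, by ring⟩
  -- elements of order divisible by `2`, `3` or `5`
  have key : ∀ n p, p.Prime → p ∣ 30 → p ∣ n → Has G n → Has C n := by
    rintro n p hp hp30 hpn ⟨x, rfl⟩
    rcases hx x with h1 | ⟨g, h1⟩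
    · exfalso
      have h2 : p ∣ Nat.gcd (Nat.card K) (Nat.card C) :=
        Nat.dvd_gcd (hpn.trans (Subgroup.orderOf_dvd_natCard K h1)) (hp30.trans hcard)
      rw [hcop] at h2
      exact hp.one_lt.ne' (Nat.dvd_one.1 h2)
    · obtain ⟨c, hc, rfl⟩ := h1
      have : orderOf (MulAut.conj g c) = orderOf c := MulEquiv.orderOf_eq _ _
      refine ⟨⟨c, hc⟩, ?_⟩
      rw [Subgroup.orderOf_mk]
      exact this.symm
  refine ⟨hF.six.of_subgroup, hF.ten.of_subgroup, ?_, ?_, ?_, ?_, ?_, ?_, ?_⟩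
  · exact fun h => hF.nine (key _ 3 Nat.prime_three (by norm_num) (by norm_num) h)
  · exact fun h => hF.fifteen (key _ 3 Nat.prime_three (by norm_num) (by norm_num) h)
  · exact fun h => hF.sixteen (key _ 2 Nat.prime_two (by norm_num) (by norm_num) h)
  · exact fun h => hF.twenty (key _ 2 Nat.prime_two (by norm_num) (by norm_num) h)
  · exact fun h => hF.twentyfour (key _ 2 Nat.prime_two (by norm_num) (by norm_num) h)
  · exact fun h => hF.twentyfive (key _ 5 Nat.prime_five (by norm_num) (by norm_num) h)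
  · exact fun h => (hF.twelve (key _ 2 Nat.prime_two (by norm_num) (by norm_num) h)).of_subgroup

end Cfsg.Agent.H299.NR
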